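import Mathlib
import Cfsg.Agent.E6S.T2

/-! Copy of `E6R/T3` for the structures of `E6S/T1`. -/

set_option autoImplicit false

namespace Cfsg.Agent.E6S

open Subgroup Cfsg.Agent.Spor Cfsg.Agent.E6R

variable {X G : Type*} [Group X] [Group G]

variable {Q₁ R₁ : Subgroup X} {a b c x w : X} {Q₂ R₂ H : Subgroup G} {z s : G} {Γ₁ Γ₂ : Subgroup (X × G)}
  {P : BNPair X} {n : Fin 4 → X}

namespace Am

variable (h : Am Q₁ R₁ a b Q₂ R₂ H z s Γ₁ Γ₂)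
include h

theorem eq1 {u v : X} {y : G} (p : (u, y) ∈ Γ₁) (q : (v, y) ∈ Γ₁) : u = v :=
  inv_mul_eq_one.1 (h.inj _ (by simpa using pmul (pinv p) q))

theorem fw {p : X × G} (hp : p ∈ Γ₁) (e : b * p.1 = p.1 * b) : p ∈ Γ₂ :=
  h.le p hp (centralizer_le_normalizer _ (mem_centralizer_closure_pair.2 ⟨(h.mem p hp).1, e⟩))

theorem back {p : X × G} (hp : p ∈ Γ₂) (e : a * p.1 = p.1 * a) : p ∈ Γ₁ :=
  let ⟨y, k⟩ := h.on1 _ e; (show (p.1, y) = p from Prod.ext rfl (h.g2.eq (h.le _ k (h.mem2 p hp)) hp)) ▸ k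

theorem braid [Finite X] (m : Md Q₁ R₁ a b w) (l : Lt P a b c x n) {σ τ : G} (h0 : (n 0, σ) ∈ Γ₂)
    (h1 : (n 1, τ) ∈ Γ₁) : (σ * τ) ^ 3 = 1 := by
  have p := m.pair
  have s2 : σ * σ = 1 := h.g2 _ (l.n00 ▸ pmul h0 h0)
  have t2 : τ * τ = 1 := h.g1 _ (l.n11 ▸ pmul h1 h1)
  have n0b := cj_back l.n00 l.n0a
  have n1c := cj_back l.n11 l.n1b
  have cQ : c ∈ Q₁ := l.n1b ▸ p.lgQ.norm _ (mul_inv_eq_iff_eq_mul.1 l.n1a).symm b p.s_mem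
  have cE : c ∈ Q₁ ⊓ R₁ := ⟨cQ, map_eq_R p l.n0a ▸ l.n0c ▸ conj_mem_map_conj _ cQ⟩
  have ab := p.zs_comm
  have ac := p.esQ.z_comm c cQ
  let Kt : X × G → Prop := fun q => q ∈ Γ₁ ∧ b * q.1 = q.1 * b ∧ c * q.1 = q.1 * c
  have k0 : ∀ q, Kt q → Kt ((n 0, σ) * q * (n 0, σ)⁻¹) := fun q ⟨q1, q2, q3⟩ =>
    ⟨h.back (mul_mem (mul_mem h0 (h.fw q1 q2)) (inv_mem h0)) (cj_comm n0b q2), cj_comm l.n0a (h.mem q q1).1,
      cj_comm l.n0c q3⟩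
  have k1 : ∀ q, Kt q → Kt ((n 1, τ) * q * (n 1, τ)⁻¹) := fun q ⟨q1, q2, q3⟩ =>
    ⟨mul_mem (mul_mem h1 q1) (inv_mem h1), cj_comm n1c q3, cj_comm l.n1b q2⟩
  set y := (σ * τ) ^ 3 with hy
  have e3 : ((n 0, σ) * (n 1, τ)) ^ 3 = (1, y) := Prod.ext l.br rfl
  have ky : ∀ u v, Kt (u, v) → y * v = v * y := fun u v q => by
    have := (k0 _ (k1 _ (k0 _ (k1 _ (k0 _ (k1 _ q)))))).1
    refine mul_inv_eq_iff_eq_mul.1 (h.g1.eq ?_ q.1)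
    convert this using 1
    calc _ = ((n 0, σ) * (n 1, τ)) ^ 3 * (u, v) * (((n 0, σ) * (n 1, τ)) ^ 3)⁻¹ := by rw [e3]; simp
      _ = _ := by rw [pow_three]; group
  have yz := (ky _ _ ⟨h.zz, ab.symm, ac.symm⟩).symm
  obtain ⟨ξ, hξ⟩ := h.on1 x (l.Ba x l.xB)
  have hξ2 := h.le _ hξ (l.normB l.xB)
  have x3 : (σ * ξ) ^ 3 = 1 := h.g2 _ (l.x3 ▸ pow_mem (pmul h0 hξ2) 3)
  set u := n 0 * n 1 * x * (n 0 * n 1)⁻¹ with hu
  have ua := (mul_inv_eq_iff_eq_mul.1 l.ya).symm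
  have ub := (mul_inv_eq_iff_eq_mul.1 l.yb).symm
  have hυ : (u, σ * τ * ξ * (σ * τ)⁻¹) ∈ Γ₁ := by
    refine h.back ?_ ua
    have := h.fw (pmul (pmul h1 hξ) (pinv h1)) (by
      have := cj_comm l.n0a ua
      rwa [show n 0 * u * (n 0)⁻¹ = n 0 * n 0 * (n 1 * x * (n 1)⁻¹) * (n 0 * n 0)⁻¹ by rw [hu]; group, l.n00,
        one_mul, inv_one, mul_one] at this)
    convert pmul (pmul h0 this) (pinv h0) using 2 <;> (try simp only [hu]) <;> group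
  have hg := pmul h1 hυ
  have g3 : (y * (τ * (σ * τ * ξ * (σ * τ)⁻¹))) ^ 3 = 1 := br3 s2 t2 x3
  have g1 : (n 1 * u) ^ 3 = 1 := by simpa only [l.br, one_mul] using br3 l.n00 l.n11 l.x3
  generalize τ * (σ * τ * ξ * (σ * τ)⁻¹) = γ at hg g3
  have γH := (h.mem _ hg).2.1
  have yH : y ∈ H := by
    have τH : τ ∈ H := (h.mem _ h1).2.1
    replace γH : γ ∈ H := γH
    have y2 : y * y ∈ H := by
      have e0 : τ * y * τ⁻¹ = y⁻¹ := (dih s2 t2).2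
      have e : τ * y⁻¹ * τ⁻¹ = y := by rw [← conj_inv, e0, inv_inv]
      have := mul_mem (h.hf.norm yz τH) (inv_mem τH)
      rwa [mul_assoc y, mul_assoc y, e] at this
    have k1 := h.hf.norm yz γH
    have k2 := mul_mem (mul_mem k1 (mul_mem (mul_mem y2 γH) (inv_mem y2))) (h.hf.norm yz (mul_mem (mul_mem y2 γH) (inv_mem y2)))
    have k3 : y * γ * y⁻¹ * (y * y * γ * (y * y)⁻¹) * (y * (y * y * γ * (y * y)⁻¹) * y⁻¹) * (y * y) * y = 1 := by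
      rw [← g3, pow_three]; group
    exact inv_mem_iff.1 (eq_inv_of_mul_eq_one_left k3 ▸ mul_mem k2 y2)
  obtain ⟨v, hv⟩ := h.onH y yH
  have kv : ∀ k, a * k = k * a → b * k = k * b → c * k = k * c → v * k = k * v := fun k k1 k2 k3 => by
    obtain ⟨t, ht⟩ := h.on1 k k1
    exact h.eq1 (pmul hv ht) (ky _ _ ⟨ht, k2, k3⟩ ▸ pmul ht hv)
  have vE := m.cenE v fun e he => kv e (p.esQ.z_comm e he.1) (p.esR.z_comm e he.2) (p.E_comm cE he)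
  have c2 := p.E_sq cE
  obtain ⟨T, hT⟩ := exists_ext2 (V4 a b) c (fun t ht => (v4_norm ac l.bc ht).symm ▸ ht) (c2 ▸ one_mem _)
  have vT : v ∈ T := by
    refine ((closure_le T).2 ?_ : closure {a, b, c} ≤ T) (p.esQ.mem_of_comm_centralizer ((closure_le _).2 ?_)
      (subset_closure (by simp)) vE.1 fun k _ e => (kv k (e a (subset_closure (by simp))).symm
        (e b (subset_closure (by simp))).symm (e c (subset_closure (by simp))).symm).symm)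
    all_goals rintro _ (rfl | rfl | rfl)
    exacts [(hT _).2 (.inl p.z_mem_V), (hT _).2 (.inl p.s_mem_V), (hT _).2 (.inr (c2 ▸ one_mem _)), p.esQ.z_mem,
      p.s_mem, cQ]
  have y2 : y⁻¹ = y := inv_eq_of_mul_eq_one_right (h.g1 _ (p.E_sq vE ▸ pmul hv hv))
  have vK : Kt (v, y) := ⟨hv, p.esR.z_comm v vE.2, p.E_comm cE vE⟩
  have v0 : n 0 * v * (n 0)⁻¹ = v := h.eq1 (k0 _ vK).1 (((dih s2 t2).1.trans y2).symm ▸ hv)
  have v1 : n 1 * v * (n 1)⁻¹ = v := h.eq1 (k1 _ vK).1 (((dih s2 t2).2.trans y2).symm ▸ hv)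
  have cV : c ∉ V4 a b := fun o => p.esR.z_ne (mul_eq_right.1 (l.yc.symm.trans (v4_norm ua ub o)))
  rcases (hT v).1 vT with o | o <;> rcases p.mem_V.1 o with e | e | e | e
  · exact h.g1 _ (e ▸ hv)
  · rw [e, l.n0a] at v0
    exact (p.ne v0.symm).elim
  · rw [e, l.n1b] at v1
    exact (cV (v1 ▸ p.s_mem_V)).elim
  · rw [e, ← conj_mul, l.n1a, l.n1b, mul_right_inj] at v1
    exact (cV (v1 ▸ p.s_mem_V)).elim
  all_goals rw [← inv_eq_of_mul_eq_one_right c2, inv_mul_eq_iff_eq_mul] at e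
  · rw [e, mul_one, n1c] at v1
    exact (cV (v1 ▸ p.s_mem_V)).elim
  · rw [e, ← conj_mul, l.n0c, l.n0a, mul_right_inj] at v0
    exact (p.ne v0.symm).elim
  · rw [e, ← conj_mul, l.n0c, n0b, mul_right_inj] at v0
    exact (p.ne v0).elim
  · exfalso
    have k : ((v * (n 1 * u)) ^ 3, (y * γ) ^ 3) ∈ Γ₁ := pow_mem (pmul hv hg) 3
    replace k := h.inj _ (g3 ▸ k)
    have cj2 : ∀ t, n 1 * u * t * (n 1 * u)⁻¹ = n 1 * (u * t * u⁻¹) * (n 1)⁻¹ := fun t => by group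
    have ga : n 1 * u * a * (n 1 * u)⁻¹ = a := by rw [cj2, l.ya, l.n1a]
    have gb : n 1 * u * b * (n 1 * u)⁻¹ = c := by rw [cj2, l.yb, l.n1b]
    have gc : n 1 * u * c * (n 1 * u)⁻¹ = c * b := by rw [cj2, l.yc, ← conj_mul, l.n1b, n1c]
    generalize n 1 * u = g at k g1 ga gb gc
    rw [show (v * g) ^ 3 = v * (g * v * g⁻¹) * (g * (g * v * g⁻¹) * g⁻¹) * g ^ 3 by rw [pow_three, pow_three]; group,
      g1, mul_one, e] at k
    have cm : ∀ r t, g * (r * t) * g⁻¹ = g * r * g⁻¹ * (g * t * g⁻¹) := fun r t => conj_mul.symm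
    rw [cm c, cm a, ga, gb, gc, cm (c * b), cm c, cm a, ga, gb, gc] at k
    have r1 : ∀ t, b * (a * t) = a * (b * t) := fun t => by rw [← mul_assoc, ← ab, mul_assoc]
    have r2 : ∀ t, c * (a * t) = a * (c * t) := fun t => by rw [← mul_assoc, ← ac, mul_assoc]
    have r3 : ∀ t, c * (b * t) = b * (c * t) := fun t => by rw [← mul_assoc, ← l.bc, mul_assoc]
    have r4 : ∀ t, c * (c * t) = t := fun t => by rw [← mul_assoc, c2, one_mul]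
    simp only [mul_assoc, r1, r2, r3, r4, ← l.bc, p.esQ.z_mul_z_mul, p.esR.z_mul_z_mul, c2, mul_one] at k
    exact l.a1 k

theorem exists_hom [Finite X] (m : Md Q₁ R₁ a b w) (l : Lt P a b c x n) :
    ∃ φ : X →* G, (∀ u y, (u, y) ∈ Γ₁ → φ u = y) ∧ ∀ u y, (u, y) ∈ Γ₂ → φ u = y := by
  have p := m.pair
  have ex : ∀ t : X, ∃ y, (a * t = t * a → (t, y) ∈ Γ₁) ∧ (t ∈ normalizer (V4 a b : Set X) → (t, y) ∈ Γ₂) := fun t => by
    by_cases o : a * t = t * a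
    · exact let ⟨y, k⟩ := h.on1 t o; ⟨y, fun _ => k, h.le _ k⟩
    by_cases o' : t ∈ normalizer (V4 a b : Set X)
    · exact let ⟨y, k⟩ := h.on2 t o'; ⟨y, fun e => (o e).elim, fun _ => k⟩
    · exact ⟨1, fun e => (o e).elim, fun e => (o' e).elim⟩
  choose σ σ1 σ2 using ex
  let Bt := Γ₁ ⊓ P.B.comap (MonoidHom.fst X G)
  have on : ∀ u ∈ P.B, ∃ y, (u, y) ∈ Bt := fun u hu => let ⟨y, k⟩ := h.on1 u (l.Ba u hu); ⟨y, k, hu⟩
  have le2 : Bt ≤ Γ₂ := fun q hq => h.le q hq.1 (l.normB hq.2)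
  have c1 : ∀ i, i ≠ 0 → (n i, σ (n i)) ∈ Γ₁ := fun i o => σ1 _ (by
    fin_cases i
    exacts [(o rfl).elim, (mul_inv_eq_iff_eq_mul.1 l.n1a).symm, (mul_inv_eq_iff_eq_mul.1 l.n2a).symm,
      (mul_inv_eq_iff_eq_mul.1 l.n3a).symm])
  have c2 : ∀ i, i ≠ 1 → (n i, σ (n i)) ∈ Γ₂ := fun i o => σ2 _ (by
    fin_cases i
    exacts [norm_of_cj (l.n0a.symm ▸ p.s_mem_V) ((cj_back l.n00 l.n0a).symm ▸ p.z_mem_V), (o rfl).elim,
      norm_of_cj (l.n2a.symm ▸ p.z_mem_V) (l.n2b.symm ▸ p.s_mem_V),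
      norm_of_cj (l.n3a.symm ▸ p.z_mem_V) (l.n3b.symm ▸ p.s_mem_V)])
  have h0 := c2 0 (by decide)
  have h1 := c1 1 (by decide)
  have g3 : ((n 0, σ (n 0)) * (n 1, σ (n 1))) ^ 3 = 1 := Prod.ext l.br (h.braid m l h0 h1)
  have nB : n 0 * n 1 ∉ P.B := fun o => p.ne (by
    rw [← cjf (l.Ba _ o), ← l.n0a, ← congrArg (n 0 * · * (n 0)⁻¹) l.n1a]; group)
  have iv : (n 1, σ (n 1)) * (n 0, σ (n 0)) = ((n 0, σ (n 0)) * (n 1, σ (n 1)))⁻¹ := by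
    rw [mul_inv_rev, Prod.inv_mk, Prod.inv_mk, inv_eq_self_of_sq l.n00, inv_eq_self_of_sq l.n11,
      inv_eq_self_of_sq (z := σ (n 0)) (h.g2 _ (l.n00 ▸ pmul h0 h0)),
      inv_eq_self_of_sq (z := σ (n 1)) (h.g1 _ (l.n11 ▸ pmul h1 h1))]
  obtain ⟨φ, hφ⟩ := E6R.exists_hom P Bt (fun y k => h.g1 y k.1) (fun _ k => k.2) on σ (fun t ht => by
    obtain ⟨i, rfl⟩ := l.S ▸ ht
    by_cases o : i = 0
    exacts [⟨Γ₂, h.g2, le2, c2 i (by simp [o])⟩, ⟨Γ₁, h.g1, inf_le_left, c1 i o⟩]) fun t ht t' ht' k hk => by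
      obtain ⟨i, rfl⟩ := l.S ▸ ht
      obtain ⟨j, rfl⟩ := l.S ▸ ht'
      by_cases o : i ≠ 0 ∧ j ≠ 0
      · exact ⟨pow_mem (mul_mem (c1 i o.1) (c1 j o.2)) k, hk⟩
      by_cases o' : i ≠ 1 ∧ j ≠ 1
      · exact bn_in on h.g2 le2 (pow_mem (mul_mem (c2 i o'.1) (c2 j o'.2)) k) hk
      obtain ⟨rfl, rfl⟩ | ⟨rfl, rfl⟩ : i = 0 ∧ j = 1 ∨ i = 1 ∧ j = 0 := by omega
      · exact (pow_eq_one_three g3 nB hk).symm ▸ one_mem _
      · rw [iv, inv_pow, pow_eq_one_three g3 nB (by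
          rwa [← inv_mem_iff, ← inv_pow, ← Prod.fst_inv, ← iv]), inv_one]
        exact one_mem _
  exact ⟨φ, fun _ _ => hφ _ h.g1 inf_le_left (fun t _ y k => σ1 t (h.mem _ k).1) _,
    fun _ _ => hφ _ h.g2 le2 (fun t _ y k => σ2 t (h.mem2 _ k)) _⟩

theorem exists_emb [Finite X] [Finite G] [IsSimpleGroup X] (m : Md Q₁ R₁ a b w) (l : Lt P a b c x n) :
    ∃ φ : X →* G, Emb Q₁ a Q₂ H z φ := by
  obtain ⟨φ, f1, f2⟩ := h.exists_hom m l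
  have p := m.pair
  have q := h.pair
  have fz : φ a = z := f1 _ _ h.zz
  have fs : φ b = s := f1 _ _ h.ss
  have inj : Function.Injective φ := (MonoidHom.ker_eq_bot_iff φ).1
    ((IsSimpleGroup.eq_bot_or_eq_top_of_normal _ inferInstance).resolve_right fun e =>
      q.esQ.z_ne (fz ▸ (e ▸ mem_top a : a ∈ φ.ker)))
  have gr : ∀ u, a * u = u * a → (u, φ u) ∈ Γ₁ := fun u o => let ⟨y, k⟩ := h.on1 u o; (f1 _ _ k).symm ▸ k
  have le : H ≤ φ.range := fun y hy => let ⟨u, k⟩ := h.onH y hy; ⟨u, f1 _ _ k⟩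
  have cen : ∀ u, a * u = u * a → φ u ∈ H := fun u o => (h.mem _ (gr u o)).2.1
  obtain ⟨g0, -, e0⟩ := q.conj
  refine ⟨φ, p.esQ, p.lgQ, q.esQ, q.lgQ, h.hf, fz, le, h.QH, h.card ▸ by norm_num,
    ⟨g0, e0 ▸ q.s_mem, e0 ▸ q.ne.symm⟩, cen, fun g ⟨u, hu⟩ => ?_, fun d hd => ?_⟩
  · obtain ⟨k, hk⟩ := m.cls u (inj (by rw [map_mul, hu, conj_mul, q.esQ.z_sq, map_one]; simp))
    suffices ∃ t, t * a * t⁻¹ = u from let ⟨t, e⟩ := this; ⟨t, by rw [← hu, ← e, ← fz]; simp⟩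
    rcases h.fus _ (gr _ (p.esQ.z_comm _ hk)) hk (isConj_iff.2 ⟨φ k * g, by
      simp only [map_mul, map_inv, hu]; group⟩) with e | ⟨k', -, e⟩
    · exact ⟨k⁻¹, by rw [← (e : _ = a)]; group⟩
    · refine ⟨(k' * k)⁻¹ * n 0, ?_⟩
      rw [show ∀ r, r * n 0 * a * (r * n 0)⁻¹ = r * (n 0 * a * (n 0)⁻¹) * r⁻¹ from fun r => by group, l.n0a, ← e]
      group
  · have sQ := q.lgQ.norm d hd s q.s_mem
    obtain ⟨u, hu⟩ := h.onH _ (h.QH sQ)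
    obtain e | ⟨k, ka, e⟩ := h.fus _ hu ((h.mem _ hu).2.2.2 sQ) (isConj_iff.2 ⟨d * g0, by rw [e0]; group⟩)
    · rw [show u = a from e] at hu
      exact (q.ne ((MulAut.conj d).injective ((cjf hd).trans (h.g1.eq h.zz hu)))).elim
    have dz := cen_mul (h.hf.cen _ (cen k ka)) hd
    have ds : s * (φ k * d) = φ k * d * s := by
      refine (mul_inv_eq_iff_eq_mul.1 ?_).symm
      rw [show φ k * d * s * (φ k * d)⁻¹ = φ k * (d * s * d⁻¹) * (φ k)⁻¹ by group, ← f1 _ _ hu, ← fs, ← e]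
      simp
    let T := φ.range.comap ((MulAut.conj (φ k * d)).toMonoidHom.comp φ)
    have tc : ∀ t, a * t = t * a → t ∈ T := fun t o => le (h.hf.norm dz (cen t o))
    have tR : R₁ ≤ T := fun t ht => by
      obtain ⟨y, hy, o⟩ := h.onR t ht
      obtain ⟨t', -, o'⟩ := h.onR' _ (q.lgR.norm _ ds y hy)
      exact ⟨t', (f2 _ _ o').trans (by rw [← f2 _ _ o]; rfl)⟩
    obtain ⟨r, hr, ra, -⟩ := exists_sw p
    have t0 : n 0 ∈ T := (mul_mem_cancel_left (inv_mem (sup_le (fun t ht => tc t (p.esQ.z_comm t ht)) tR hr))).1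
      (tc _ (mul_inv_eq_iff_eq_mul.1 (by
        rw [show ∀ r, r * n 0 * a * (r * n 0)⁻¹ = r * (n 0 * a * (n 0)⁻¹) * r⁻¹ from fun r => by group, l.n0a, ← ra]
        group)).symm)
    have tB : P.B ≤ T := fun t ht => tc t (l.Ba t ht)
    have top : ⊤ ≤ T := P.sup_eq_top ▸ sup_le tB (P.closure_sup ▸ sup_le ((closure_le T).2 fun t ht => by
      obtain ⟨i, rfl⟩ := l.S ▸ ht
      fin_cases i
      exacts [t0, tc _ (mul_inv_eq_iff_eq_mul.1 l.n1a).symm, tc _ (mul_inv_eq_iff_eq_mul.1 l.n2a).symm,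
        tc _ (mul_inv_eq_iff_eq_mul.1 l.n3a).symm]) (inf_le_left.trans tB))
    intro t
    rw [show d * φ t * d⁻¹ = (φ k)⁻¹ * (φ k * d * φ t * (φ k * d)⁻¹) * φ k by group]
    exact mul_mem (mul_mem (inv_mem ⟨k, rfl⟩) (top (mem_top t))) ⟨k, rfl⟩

end Am

end Cfsg.Agent.E6S
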